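import Cfsg.Agent.Lib.Classical.Unitary.Structure
import Cfsg.Agent.Lib.Classical.Unitary.Isotropic
import Mathlib.Analysis.Fourier.FiniteAbelian.PontryaginDuality

/-!
Eichler transformations: product and conjugation; skew elements and their characters; the setting in which
the recursion on hyperbolic pairs takes place.
-/

set_option autoImplicit false

namespace CfsgLib.Known.SUDegree

open CfsgLib.Classical.Herm

variable {F : Type*} [Field F] {V : Type*} [AddCommGroup V] [Module F V] {σ : F →+* F}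
  {B : V →ₛₗ[σ] V →ₗ[F] F}

/-- The skew elements. -/
def skew (σ : F →+* F) : AddSubgroup F := (AddMonoidHom.id F + σ.toAddMonoidHom).ker

theorem mem_skew {c : F} : c ∈ skew σ ↔ c + σ c = 0 := Iff.rfl

section Tr

variable (h : IsHerm B) [FiniteDimensional F V]
include h

theorem tr_mul {u : V} (hu : B u u = 0) {c d : F} (hc : c + σ c = 0) (hd : d + σ d = 0) {e : F}
    (he : e + σ e = 0) (hde : e = c + d) : h.tr hu hc * h.tr hu hd = h.tr hu he := by
  ext y
  simp only [Subgroup.coe_mul, LinearEquiv.mul_apply, h.tr_apply, map_add, smul_right, hu, mul_zero,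
    add_zero, hde]
  module

theorem tr_zero {u : V} (hu : B u u = 0) (hc : (0 : F) + σ 0 = 0) : h.tr hu hc = 1 := by
  ext y
  simp [h.tr_apply]

theorem tr_smul {u v : V} (hu : B u u = 0) (hv : B v v = 0) {t c d : F} (hvu : v = t • u)
    (hc : c + σ c = 0) (hd : d + σ d = 0) (hdc : d = t * σ t * c) : h.tr hv hc = h.tr hu hd := by
  subst hvu
  ext y
  simp only [h.tr_apply, smul_left, smul_smul, hdc]
  congr 2
  ring

theorem eich_congr {u x x' : V} (hu : B u u = 0) {hux : B u x = 0} {hux' : B u x' = 0} {a a' : F}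
    {ha : a + σ a = -B x x} {ha' : a' + σ a' = -B x' x'} (hx : x = x') (haa : a = a') :
    h.eich hu hux ha = h.eich hu hux' ha' := by subst hx; subst haa; rfl

theorem eich_mul {u x y z : V} (hu : B u u = 0) (hux : B u x = 0) (huy : B u y = 0) (huz : B u z = 0)
    {a b e : F} (ha : a + σ a = -B x x) (hb : b + σ b = -B y y) (he : e + σ e = -B z z)
    (hz : z = x + y) (hee : e = a + b - B x y) :
    h.eich hu hux ha * h.eich hu huy hb = h.eich hu huz he := by
  subst hz hee
  ext w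
  simp only [Subgroup.coe_mul, LinearEquiv.mul_apply, h.eich_apply, map_add, LinearMap.add_apply,
    smul_right, hu, huy, h.eq_zero_symm hux, mul_zero, add_zero]
  match_scalars <;> ring

theorem eich_zero {u : V} (hu : B u u = 0) (hu0 : B u 0 = 0) {c : F} (hc : c + σ c = -B (0 : V) 0)
    (hc' : c + σ c = 0) : h.eich hu hu0 hc = h.tr hu hc' := by
  ext y
  simp [h.eich_apply, h.tr_apply]

theorem conj_eich {u x u' x' : V} (hu : B u u = 0) (hux : B u x = 0) {a : F}
    (ha : a + σ a = -B x x) (g : HU B) (hu' : (g : V ≃ₗ[F] V) u = u') (hx' : (g : V ≃ₗ[F] V) x = x')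
    (huu' : B u' u' = 0) (hux' : B u' x' = 0) (ha' : a + σ a = -B x' x') :
    g * h.eich hu hux ha * g⁻¹ = h.eich huu' hux' ha' := by
  subst hu' hx'
  rw [mul_inv_eq_iff_eq_mul]
  ext y
  simp only [Subgroup.coe_mul, LinearEquiv.mul_apply, h.eich_apply, HU.map_eq, map_add,
    LinearEquiv.map_smul]

end Tr

section Chars

variable [Finite F]

theorem card_skew (hσ : IsInvol σ) : Nat.card (skew σ) = Nat.card (fixedSub σ) := by
  obtain ⟨θ, hθ, hσθ⟩ := hσ.exists_skew
  refine (Nat.card_congr (Equiv.ofBijective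
    (fun r : fixedSub σ => (⟨θ * r, by
      rw [mem_skew, map_mul, hσθ, mem_fixedSub.1 r.2]; ring⟩ : skew σ)) ⟨fun r r' hr => ?_, fun c => ?_⟩)).symm
  · exact Subtype.ext (mul_left_cancel₀ hθ (congrArg Subtype.val hr))
  · refine ⟨⟨(c : F) / θ, ?_⟩, Subtype.ext (mul_div_cancel₀ _ hθ)⟩
    rw [mem_fixedSub, map_div₀, hσθ, eq_neg_of_add_eq_zero_right (mem_skew.1 c.2), neg_div_neg_eq]

theorem fixed_mul_mem (r : fixedSub σ) (c : skew σ) : (r : F) * c ∈ skew σ := by
  rw [mem_skew, map_mul, mem_fixedSub.1 r.2, ← mul_add, mem_skew.1 c.2, mul_zero]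

/-- A character of the skew elements, scaled by a fixed element. -/
noncomputable def scaled (ζ : AddChar (skew σ) ℂ) (r : fixedSub σ) : AddChar (skew σ) ℂ :=
  ζ.compAddMonoidHom
    { toFun := fun c => ⟨(r : F) * c, fixed_mul_mem r c⟩
      map_zero' := Subtype.ext (mul_zero _)
      map_add' := fun c d => Subtype.ext (mul_add _ _ _) }

theorem exists_ne {ζ : AddChar (skew σ) ℂ} (hζ : ζ ≠ 1) : ∃ c : skew σ, ζ c ≠ 1 := by
  by_contra hcon
  push Not at hcon
  exact hζ (DFunLike.ext _ _ hcon)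

theorem scaled_injective {ζ : AddChar (skew σ) ℂ} (hζ : ζ ≠ 1) : Function.Injective (scaled ζ) := by
  intro r r' h
  by_contra hne
  obtain ⟨c, hc⟩ := exists_ne hζ
  have hd : (r : F) - r' ≠ 0 := sub_ne_zero.2 fun e => hne (Subtype.ext e)
  let d : skew σ := ⟨((r - r')⁻¹ : fixedSub σ) * (c : F), fixed_mul_mem _ c⟩
  have h1 : ζ ⟨(r : F) * d, fixed_mul_mem r d⟩ = ζ ⟨(r' : F) * d, fixed_mul_mem r' d⟩ :=
    DFunLike.congr_fun h d
  refine hc ?_
  have hce : c = (⟨(r : F) * d, fixed_mul_mem r d⟩ : skew σ) - ⟨(r' : F) * d, fixed_mul_mem r' d⟩ :=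
    Subtype.ext (by
      show (c : F) = (r : F) * ((((r - r')⁻¹ : fixedSub σ) : F) * c) - (r' : F) * ((((r - r')⁻¹ : fixedSub σ) : F) * c)
      push_cast
      field_simp)
  rw [hce, AddChar.map_sub_eq_div, h1, div_self]
  exact (AddChar.val_isUnit _ _).ne_zero

theorem exists_scaled (hσ : IsInvol σ) {ζ : AddChar (skew σ) ℂ} (hζ : ζ ≠ 1)
    (χ : AddChar (skew σ) ℂ) : ∃ r : fixedSub σ, scaled ζ r = χ := by
  haveI := Fintype.ofFinite (skew σ)
  haveI := Fintype.ofFinite (fixedSub σ)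
  exact ((Fintype.bijective_iff_injective_and_card (scaled ζ)).2 ⟨scaled_injective hζ, by
    rw [AddChar.card_eq, ← Nat.card_eq_fintype_card, ← Nat.card_eq_fintype_card, card_skew hσ]⟩).2 χ

end Chars

/-- The setting of the recursion: a nondegenerate subspace `W` and a group of isometries containing its Eichler
transformations and inducing enough on it. -/
structure Setting (h : IsHerm B) [FiniteDimensional F V] (W : Submodule F V) (K : Subgroup (HU B)) : Prop where
  nondeg : ∀ x ∈ W, (∀ y ∈ W, B x y = 0) → x = 0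
  eich_mem : ∀ {u x : V} (hu : B u u = 0) (hux : B u x = 0) {a : F} (ha : a + σ a = -B x x),
    u ∈ W → x ∈ W → h.eich hu hux ha ∈ K
  torus : ∀ u ∈ W, ∀ f ∈ W, B u u = 0 → B f f = 0 → B u f = 1 → ∀ t : F, t ≠ 0 →
    ∃ g ∈ K, (g : V ≃ₗ[F] V) u = t • u
  full : ∀ u ∈ W, ∀ f ∈ W, B u u = 0 → B f f = 0 → B u f = 1 → ∀ φ : HU B,
    (∀ y, (∀ x ∈ W, B u x = 0 → B f x = 0 → B x y = 0) → (φ : V ≃ₗ[F] V) y = y) →
      ∃ g ∈ K, (∃ c : F, (g : V ≃ₗ[F] V) u = c • u) ∧
        ∀ x ∈ W, B u x = 0 → B f x = 0 → (g : V ≃ₗ[F] V) x = (φ : V ≃ₗ[F] V) x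

/-- The isometries fixing a line. -/
def lineStab (B : V →ₛₗ[σ] V →ₗ[F] F) (u : V) : Subgroup (HU B) where
  carrier := {g | ∃ c : F, c ≠ 0 ∧ (g : V ≃ₗ[F] V) u = c • u}
  one_mem' := ⟨1, one_ne_zero, by simp⟩
  mul_mem' := by
    rintro a b ⟨c, hc, ea⟩ ⟨d, hd, eb⟩
    exact ⟨d * c, mul_ne_zero hd hc, by
      rw [Subgroup.coe_mul, LinearEquiv.mul_apply, eb, LinearEquiv.map_smul, ea, smul_smul]⟩
  inv_mem' := by
    rintro a ⟨c, hc, ea⟩
    refine ⟨c⁻¹, inv_ne_zero hc, (a : V ≃ₗ[F] V).injective ?_⟩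
    rw [LinearEquiv.map_smul, ea, smul_smul, inv_mul_cancel₀ hc, one_smul, Subgroup.coe_inv]
    exact (a : V ≃ₗ[F] V).apply_symm_apply u

theorem mem_lineStab_of_apply {u : V} (hu : u ≠ 0) {g : HU B} {c : F}
    (hg : (g : V ≃ₗ[F] V) u = c • u) : g ∈ lineStab B u :=
  ⟨c, fun e => hu ((g : V ≃ₗ[F] V).map_eq_zero_iff.1 (by rw [hg, e, zero_smul])), hg⟩

/-- The complement of a hyperbolic pair in `W`. -/
def inner (B : V →ₛₗ[σ] V →ₗ[F] F) (W : Submodule F V) (u f : V) : Submodule F V :=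
  W ⊓ LinearMap.ker (B u) ⊓ LinearMap.ker (B f)

theorem mem_inner {W : Submodule F V} {u f x : V} :
    x ∈ inner B W u f ↔ x ∈ W ∧ B u x = 0 ∧ B f x = 0 := by
  simp [inner, and_assoc]

section Pair

variable (h : IsHerm B) {W : Submodule F V} {u f : V} (hu : u ∈ W) (hf : f ∈ W) (huu : B u u = 0)
  (hff : B f f = 0) (huf : B u f = 1)
include h hu hf huu hff huf

theorem sub_pair_mem {x : V} (hx : x ∈ W) : x - B f x • u - B u x • f ∈ inner B W u f := by
  have hfu : B f u = 1 := by rw [← h.symm, huf, map_one]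
  exact mem_inner.2 ⟨W.sub_mem (W.sub_mem hx (W.smul_mem _ hu)) (W.smul_mem _ hf),
    by simp [huu, huf, smul_right], by simp [hfu, hff, smul_right]⟩

theorem inner_nondeg (hW : ∀ x ∈ W, (∀ y ∈ W, B x y = 0) → x = 0) :
    ∀ x ∈ inner B W u f, (∀ y ∈ inner B W u f, B x y = 0) → x = 0 := by
  intro x hx hrad
  obtain ⟨hxW, hux, hfx⟩ := mem_inner.1 hx
  refine hW x hxW fun y hy => ?_
  have h0 := hrad _ (sub_pair_mem h hu hf huu hff huf hy)
  rwa [map_sub, map_sub, smul_right, smul_right, h.eq_zero_symm hux, h.eq_zero_symm hfx, mul_zero,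
    mul_zero, sub_zero, sub_zero] at h0

theorem finrank_inner [FiniteDimensional F V] :
    Module.finrank F W = Module.finrank F (inner B W u f) + 2 := by
  have hP : Submodule.span F ({u, f} : Set V) ≤ W := by
    rw [Submodule.span_le]; rintro x (rfl | rfl) <;> assumption
  have hsup : Submodule.span F ({u, f} : Set V) ⊔ inner B W u f = W := by
    refine le_antisymm (sup_le hP fun x hx => (mem_inner.1 hx).1) fun x hx => ?_
    rw [Submodule.mem_sup]
    exact ⟨B f x • u + B u x • f, Submodule.mem_span_pair.2 ⟨_, _, rfl⟩, _,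
      sub_pair_mem h hu hf huu hff huf hx, by abel⟩
  have hinf : Submodule.span F ({u, f} : Set V) ⊓ inner B W u f = ⊥ := by
    rw [eq_bot_iff]
    rintro x ⟨hx, hx'⟩
    exact h.pair_nondeg (h.hyperbolic_disc (f := f) huu huf) x hx fun y hy => by
      obtain ⟨-, h1, h2⟩ := mem_inner.1 hx'
      obtain ⟨r, s, rfl⟩ := Submodule.mem_span_pair.1 hy
      rw [map_add, smul_right, smul_right, h.eq_zero_symm h1, h.eq_zero_symm h2, mul_zero, mul_zero,
        add_zero]
  have := Submodule.finrank_sup_add_finrank_inf_eq (Submodule.span F ({u, f} : Set V)) (inner B W u f)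
  rw [hsup, hinf, finrank_bot, h.pair_finrank (h.hyperbolic_disc (f := f) huu huf)] at this
  omega

/-- The setting passes to the complement of a hyperbolic pair and the stabiliser of its first line. -/
theorem setting_inner [FiniteDimensional F V] {K : Subgroup (HU B)} (hS : Setting h W K) :
    Setting h (inner B W u f) (K ⊓ lineStab B u) := by
  have hu0 : u ≠ 0 := fun e => by rw [e, zero_left] at huf; exact zero_ne_one huf
  refine ⟨inner_nondeg h hu hf huu hff huf hS.nondeg, fun {v x} hv hvx {a} ha hvW hxW => ⟨?_, ?_⟩,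
    fun v hv w hw hvv hww hvw t ht => ?_, fun v hv w hw hvv hww hvw φ hφ => ?_⟩
  · exact hS.eich_mem hv hvx ha (mem_inner.1 hvW).1 (mem_inner.1 hxW).1
  · refine mem_lineStab_of_apply hu0 (c := 1) ?_
    rw [h.eich_apply, h.eq_zero_symm (mem_inner.1 hvW).2.1, h.eq_zero_symm (mem_inner.1 hxW).2.1]
    simp
  · obtain ⟨d, -, hd⟩ := h.exists_dilation hvv hww hvw ht
    obtain ⟨hvW, huv, hfv⟩ := mem_inner.1 hv
    obtain ⟨hwW, huw, hfw⟩ := mem_inner.1 hw
    have hwv : B w v = 1 := by rw [← h.symm, hvw, map_one]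
    obtain ⟨g, hg, ⟨c, hgu⟩, hgW⟩ := hS.full u hu f hf huu hff huf d fun y hy => by
      rw [hd y (hy v hvW huv hfv), hy w hwW huw hfw, mul_zero, zero_smul, add_zero]
    refine ⟨g, ⟨hg, mem_lineStab_of_apply hu0 hgu⟩, ?_⟩
    rw [hgW v hvW huv hfv, hd v hvv, hwv]
    module
  · have hfix : ∀ y, (∀ x ∈ W, B u x = 0 → B f x = 0 → B x y = 0) → (φ : V ≃ₗ[F] V) y = y :=
      fun y hy => hφ y fun x hx _ _ => hy x (mem_inner.1 hx).1 (mem_inner.1 hx).2.1 (mem_inner.1 hx).2.2
    obtain ⟨g, hg, ⟨c, hgu⟩, hgW⟩ := hS.full u hu f hf huu hff huf φ hfix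
    obtain ⟨hvW, huv, hfv⟩ := mem_inner.1 hv
    refine ⟨g, ⟨hg, mem_lineStab_of_apply hu0 hgu⟩, ⟨1, ?_⟩, fun x hx _ _ => ?_⟩
    · rw [hgW v hvW huv hfv, one_smul]
      exact hφ v fun x _ hvx _ => h.eq_zero_symm hvx
    · exact hgW x (mem_inner.1 hx).1 (mem_inner.1 hx).2.1 (mem_inner.1 hx).2.2

end Pair

/-- The special unitary group is such a setting for the whole space. -/
theorem setting_top (h : IsHerm B) [Finite F] [FiniteDimensional F V]
    (h3 : 3 ≤ Module.finrank F V) : Setting h ⊤ (HSU B) := by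
  refine ⟨fun x _ hx => h.nondeg x fun y => hx y trivial,
    fun {u x} hu hux {a} ha _ _ => h.eich_mem hu hux ha, fun u _ f _ huu hff huf t ht => ?_,
    fun u _ f _ huu hff huf φ hφ => ?_⟩
  · have hW := h.pair_nondeg (h.hyperbolic_disc (f := f) huu huf)
    have hr := h.finrank_orth hW
    rw [h.pair_finrank (h.hyperbolic_disc (f := f) huu huf)] at hr
    obtain ⟨x, hx, hxx⟩ := h.exists_norm_in (h.orth_nondeg hW) (by omega) (map_one σ)
    have hux : B u x = 0 := h.mem_orth.1 hx u (Submodule.subset_span (Set.mem_insert u _))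
    have hst : σ t ≠ 0 := fun e => ht (IsInvol.apply_eq_zero_iff.1 e)
    have hn : σ t / t * σ (σ t / t) = 1 := by
      rw [map_div₀, h.invol.invol]; field_simp
    obtain ⟨d, hdet, hd⟩ := h.exists_dilation huu hff huf ht
    have hxx0 : B x x ≠ 0 := by rw [hxx]; exact one_ne_zero
    let p := h.quasiIso x hxx0 (Units.mk0 (σ t / t) (div_ne_zero hst ht)) hn
    refine ⟨p * d, ?_, ?_⟩
    · rw [MonoidHom.mem_ker, map_mul,
        show HU.det B p = Units.mk0 (σ t / t) (div_ne_zero hst ht) from h.det_quasiIso _ _ _ _, Units.ext_iff]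
      simp only [Units.val_mul, Units.val_mk0, hdet, Units.val_one]
      field_simp
    · have hfu : B f u = 1 := by rw [← h.symm, huf, map_one]
      rw [Subgroup.coe_mul, LinearEquiv.mul_apply, hd u huu, hfu,
        show u + ((t - 1) * 1) • u = t • u by module, LinearEquiv.map_smul]
      congr 1
      exact quasi_apply_perp x hxx0 _ (h.eq_zero_symm hux)
  · have hfu : B f u = 1 := by rw [← h.symm, huf, map_one]
    have hd := h.det_norm_one φ
    set e : F := ((HU.det B φ : Fˣ) : F) with he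
    obtain ⟨s, hs0, hs⟩ : ∃ s : F, s ≠ 0 ∧ s / σ s * e = 1 := by
      by_cases hd1 : 1 + σ e = 0
      · obtain ⟨θ, hθ0, hθ⟩ := h.exists_skew
        refine ⟨θ, hθ0, ?_⟩
        have hse : σ e = -1 := eq_neg_of_add_eq_zero_right hd1
        rw [hse] at hd
        rw [eq_neg_of_add_eq_zero_right hθ, div_neg, div_self hθ0]
        linear_combination hd
      · have hs : σ (1 + σ e) ≠ 0 := fun h0 => hd1 (IsInvol.apply_eq_zero_iff.1 h0)
        refine ⟨1 + σ e, hd1, ?_⟩
        rw [div_mul_eq_mul_div, div_eq_one_iff_eq hs, map_add, map_one, h.invol.invol]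
        linear_combination hd
    obtain ⟨d, hdet, hdx⟩ := h.exists_dilation huu hff huf hs0
    refine ⟨φ * d, ?_, ⟨s, ?_⟩, fun x _ hux hfx => ?_⟩
    · rw [MonoidHom.mem_ker, map_mul, Units.ext_iff]
      simp only [Units.val_mul, hdet, Units.val_one, ← he]
      linear_combination hs
    · have hφu : (φ : V ≃ₗ[F] V) u = u := hφ u fun x _ hux _ => h.eq_zero_symm hux
      rw [Subgroup.coe_mul, LinearEquiv.mul_apply, hdx u huu, hfu,
        show u + ((s - 1) * 1) • u = s • u by module, LinearEquiv.map_smul, hφu]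
    · rw [Subgroup.coe_mul, LinearEquiv.mul_apply, hdx x hux, hfx, mul_zero, zero_smul, add_zero]

end CfsgLib.Known.SUDegree
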