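import Cfsg.Agent.Lib.Known.SUDegree.Step
import Cfsg.Agent.Lib.Classical.Unitary.MatrixStructure

/-!
The least degree of a nontrivial irreducible complex representation of the special unitary group.
-/

set_option autoImplicit false

namespace CfsgLib.Known.SUDegree

open CfsgLib.Classical.Herm

theorem pow_le_degree {F : Type*} [Field F] [Fintype F] {n q : ℕ} (hn : 3 ≤ n)
    (hF : Fintype.card F = q ^ 2) (hex : n = 3 → q ≠ 2) {k : ℕ}
    (ρ : Representation ℂ (Cfsg.SU n F q) (Fin k → ℂ)) (hρ : ρ.IsIrreducible) (hk : 2 ≤ k) :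
    q ^ n ≤ (q + 1) * k + q ^ (n % 2) := by
  have h := hermStd_isHerm (n := n) hF
  have hfr : Module.finrank F (Fin n → F) = n := finrank_std
  have hS := setting_top h (by omega)
  have hcard : Nat.card (fixedSub (powHom hF)) = q := card_fixed_powHom hF
  have htop : Module.finrank F (⊤ : Submodule F (Fin n → F)) = n := by rw [finrank_top, hfr]
  let R : HSU (hermStd n hF) →* Module.End ℂ (Fin k → ℂ) := ρ.comp (suEquiv n hF).symm.toMonoidHom
  have hmain := pow_le_of_setting h n ⊤ htop _ hS (Fin k → ℂ) R ?_
  · rwa [hcard, Module.finrank_fin_fun] at hmain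
  by_contra hcon
  push Not at hcon
  have hall : ∀ A : Cfsg.SU n F q, ρ A = 1 := by
    intro A
    have hA : A ∈ Subgroup.closure {A : ↥(Cfsg.SU n F q) | ∃ (v : Fin n → F) (c : F),
        Cfsg.hermForm n F q v v = 0 ∧
        ((A : Matrix.SpecialLinearGroup (Fin n) F) : Matrix (Fin n) (Fin n) F) =
          Cfsg.unitaryTransvection n q v c} := by
      rw [su_closure_transvections hF n (by omega) hex]; trivial
    induction hA using Subgroup.closure_induction with
    | one => exact map_one ρ
    | mem A hA =>
      obtain ⟨v, c, hv, e⟩ := hA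
      rcases eq_or_ne v 0 with rfl | hv0
      · rw [show A = 1 from Subtype.ext (Matrix.SpecialLinearGroup.ext _ _ fun i j => by
          rw [show ((A : Matrix.SpecialLinearGroup (Fin n) F) : Matrix (Fin n) (Fin n) F) i j = _ from
            congrFun₂ e i j]
          simp [Cfsg.unitaryTransvection, Matrix.SpecialLinearGroup.coe_one]), map_one]
      have hvv : hermStd n hF v v = 0 := hv
      obtain ⟨f, hvf⟩ := h.exists_apply_eq_one hv0
      have hfv : hermStd n hF f v = 1 := by rw [← h.symm, hvf, map_one]
      have hact : ∀ y, ((suEquiv n hF A : HU (hermStd n hF)) : (Fin n → F) ≃ₗ[F] (Fin n → F)) y =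
          y + (c * hermStd n hF v y) • v := fun y => by
        rw [suEquiv_apply, e, unitaryTransvection_mulVec hF]
      have hc : c + powHom hF c = 0 := by
        have := HU.map_eq (suEquiv n hF A : HU (hermStd n hF)) f f
        rw [hact] at this
        simp only [map_add, LinearMap.add_apply, smul_left, smul_right, hvf, hfv, hvv, mul_one,
          mul_zero, add_zero] at this
        linear_combination this
      have h1 := hcon v Submodule.mem_top hvv ⟨c, hc⟩
      have he : trEl h hS (u := v) Submodule.mem_top hvv ⟨c, hc⟩ = suEquiv n hF A := Subtype.ext (by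
        rw [coe_trEl]
        refine Subtype.ext (LinearEquiv.ext fun y => ?_)
        rw [h.tr_apply, hact])
      have h2 : ρ ((suEquiv n hF).symm (suEquiv n hF A)) = 1 := he ▸ h1
      rwa [MulEquiv.symm_apply_apply] at h2
    | mul a b _ _ ha hb => rw [map_mul, ha, hb, one_mul]
    | inv a _ ha => calc ρ a⁻¹ = ρ a⁻¹ * ρ a := by rw [ha, mul_one]
          _ = 1 := by rw [← map_mul, inv_mul_cancel, map_one]
  let i : Fin k := ⟨0, by omega⟩
  let W : Subrepresentation ρ := ⟨ℂ ∙ (Pi.single i 1 : Fin k → ℂ), fun g v hv => by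
    rw [hall g]; exact hv⟩
  rcases hρ.eq_bot_or_eq_top W with hW | hW
  · have : (Pi.single i 1 : Fin k → ℂ) ∈ (⊥ : Subrepresentation ρ).toSubmodule :=
      hW ▸ Submodule.mem_span_singleton_self _
    exact one_ne_zero (α := ℂ) (by simpa using congrFun ((Submodule.mem_bot ℂ).1 this) i)
  · have h1 := congrArg (fun S : Subrepresentation ρ => Module.finrank ℂ S.toSubmodule) hW
    simp only [W] at h1
    rw [finrank_span_singleton (by simp)] at h1
    change 1 = Module.finrank ℂ (⊤ : Submodule ℂ (Fin k → ℂ)) at h1
    rw [finrank_top, Module.finrank_fin_fun] at h1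
    omega

end CfsgLib.Known.SUDegree
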