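import Cfsg.Agent.Lib.Known.SUDegree.Weights
import Cfsg.Agent.Lib.Known.SUDegree.Basic

/-!
Lower bound for the degree of a representation of a unitary setting in which a transvection acts nontrivially.

Inside the radical of a hyperbolic pair `u, f` the transvections at `u` give `q - 1` nontrivial characters, and each
of them carries `q^(k-2)` weights of a maximal abelian subgroup. The fixed space of the transvections at `u` carries
the setting of dimension `k - 2`, and a transvection of that setting is nontrivial on it: otherwise its root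
group would have the same fixed space, whereas it fixes a vector in each nontrivial character space.
-/

set_option autoImplicit false
set_option maxHeartbeats 800000

namespace CfsgLib.Known.SUDegree

open CfsgLib.Classical.Herm Module

variable {F : Type*} [Field F] [Finite F] {V : Type*} [AddCommGroup V] [Module F V]
  [FiniteDimensional F V] {σ : F →+* F} {B : V →ₛₗ[σ] V →ₗ[F] F}

/-- The transvections at `u` inside the group. -/
noncomputable def trEl (h : IsHerm B) {W : Submodule F V} {K : Subgroup (HU B)} (hS : Setting h W K)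
    {u : V} (hu : u ∈ W) (huu : B u u = 0) (c : skew σ) : K :=
  ⟨h.tr huu (mem_skew.1 c.2), by
    have h1 : (c : F) + σ (c : F) = -B (0 : V) 0 := by rw [map_zero, neg_zero]; exact mem_skew.1 c.2
    rw [← eich_zero h huu (map_zero _) h1 (mem_skew.1 c.2)]
    exact hS.eich_mem huu _ h1 hu W.zero_mem⟩

theorem coe_trEl (h : IsHerm B) {W : Submodule F V} {K : Subgroup (HU B)} (hS : Setting h W K)
    {u : V} (hu : u ∈ W) (huu : B u u = 0) (c : skew σ) :
    ((trEl h hS hu huu c : K) : HU B) = h.tr huu (mem_skew.1 c.2) := rfl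

theorem trEl_mul (h : IsHerm B) {W : Submodule F V} {K : Subgroup (HU B)} (hS : Setting h W K)
    {u : V} (hu : u ∈ W) (huu : B u u = 0) (c d : skew σ) :
    trEl h hS hu huu c * trEl h hS hu huu d = trEl h hS hu huu (c + d) :=
  Subtype.ext (tr_mul h huu (mem_skew.1 c.2) (mem_skew.1 d.2) (mem_skew.1 (c + d).2) rfl)

theorem trEl_zero (h : IsHerm B) {W : Submodule F V} {K : Subgroup (HU B)} (hS : Setting h W K)
    {u : V} (hu : u ∈ W) (huu : B u u = 0) : trEl h hS hu huu 0 = 1 :=
  Subtype.ext (tr_zero h huu (mem_skew.1 (0 : skew σ).2))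

theorem trEl_comm (h : IsHerm B) {W : Submodule F V} {K : Subgroup (HU B)} (hS : Setting h W K)
    {u : V} (hu : u ∈ W) (huu : B u u = 0) (c d : skew σ) :
    Commute (trEl h hS hu huu c) (trEl h hS hu huu d) := by
  rw [Commute, SemiconjBy, trEl_mul, trEl_mul, add_comm]

section Rep

variable (h : IsHerm B) {W : Submodule F V} {K : Subgroup (HU B)} (hS : Setting h W K)
  {U : Type} [AddCommGroup U] [Module ℂ U] [FiniteDimensional ℂ U] (R : K →* Module.End ℂ U)
  {u f : V} (hu : u ∈ W) (hf : f ∈ W) (huu : B u u = 0) (hff : B f f = 0) (huf : B u f = 1)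

/-- The Eichler element of a vector of the complement. -/
noncomputable def eichEl {x : V} (hx : x ∈ inner B W u f) {a : F} (ha : a + σ a = -B x x) : K :=
  ⟨h.eich huu (mem_inner.1 hx).2.1 ha, hS.eich_mem huu _ ha hu (mem_inner.1 hx).1⟩

omit [Finite F] in
theorem coe_eichEl {x : V} (hx : x ∈ inner B W u f) {a : F} (ha : a + σ a = -B x x) :
    ((eichEl h hS hu huu hx ha : K) : HU B) = h.eich huu (mem_inner.1 hx).2.1 ha := rfl

/-- The fixed space of the transvections at `u`. -/
noncomputable def fixTr : Submodule ℂ U := eigen R (trEl h hS hu huu) fun _ => 1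

include hf hff huf

omit [Module ℂ U] [FiniteDimensional ℂ U] in
theorem eichEl_mul_tr {x : V} (hx : x ∈ inner B W u f) {a : F} (ha : a + σ a = -B x x) (c : skew σ) :
    Commute (eichEl h hS hu huu hx ha) (trEl h hS hu huu c) := by
  refine Subtype.ext ?_
  simp only [Subgroup.coe_mul, coe_trEl, coe_eichEl]
  rw [← mul_inv_eq_iff_eq_mul, h.conj_tr]
  have e : (h.eich huu (mem_inner.1 hx).2.1 ha : V ≃ₗ[F] V) u = u := by
    rw [h.eich_apply, huu, h.eq_zero_symm (mem_inner.1 hx).2.1]
    simp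
  ext y
  simp only [h.tr_apply, e]

theorem fixTr_invariant {g : K} (hg : (g : HU B) ∈ lineStab B u) {x : U} (hx : x ∈ fixTr h hS R hu huu) :
    R g x ∈ fixTr h hS R hu huu := by
  rw [fixTr, mem_eigen] at hx ⊢
  obtain ⟨t, ht, hgu⟩ := inv_mem hg
  intro c
  have hd : t * σ t * c ∈ skew σ := fixed_mul_mem ⟨t * σ t, h.invol.norm_mem t⟩ c
  have hconj : g⁻¹ * trEl h hS hu huu c * g = trEl h hS hu huu ⟨_, hd⟩ := by
    refine Subtype.ext ?_
    simp only [Subgroup.coe_mul, Subgroup.coe_inv, coe_trEl]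
    conv_lhs => arg 2; rw [← inv_inv (g : HU B)]
    rw [h.conj_tr]
    exact tr_smul h huu _ hgu _ _ rfl
  rw [one_smul, apply_apply,
    show trEl h hS hu huu c * g = g * (g⁻¹ * trEl h hS hu huu c * g) by group, hconj, ← apply_apply,
    hx, one_smul]

theorem exists_weight (hne : ∃ c : skew σ, R (trEl h hS hu huu c) ≠ 1) :
    ∃ ζ : AddChar (skew σ) ℂ, ζ ≠ 1 ∧
      ∃ x, x ≠ 0 ∧ x ∈ eigen R (trEl h hS hu huu) fun c => ζ c := by
  obtain ⟨p, hp⟩ := CharP.exists F
  haveI := hp
  have hp0 : p ≠ 0 := by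
    rintro rfl
    haveI : CharZero F := CharP.charP_to_charZero F
    exact not_finite F
  let ι : Multiplicative (skew σ) →* K :=
    MonoidHom.mk' (fun c => trEl h hS hu huu c.toAdd) fun a b => (trEl_mul h hS hu huu _ _).symm
  obtain ⟨c₀, hc₀⟩ := hne
  obtain ⟨ζ, hζ, x, hx0, hx⟩ := CrossChar.exists_has_ne_one R ι (p := p) (Nat.cast_ne_zero.2 hp0)
    (fun v => Subtype.ext (by
      rw [AddSubgroupClass.coe_nsmul, nsmul_eq_mul, CharP.cast_eq_zero, zero_mul]; rfl)) c₀ hc₀
  exact ⟨ζ, hζ, x, hx0, (mem_eigen R).2 hx⟩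

theorem exists_scaled_weight {ζ : AddChar (skew σ) ℂ} {x : U} (hx0 : x ≠ 0)
    (hx : x ∈ eigen R (trEl h hS hu huu) fun c => ζ c) {r : fixedSub σ} (hr : r ≠ 0) :
    ∃ y, y ≠ 0 ∧ y ∈ eigen R (trEl h hS hu huu) fun c => scaled ζ r c := by
  obtain ⟨t, ht⟩ := h.invol.exists_norm_eq (mem_fixedSub.1 r.2)
  have ht0 : t ≠ 0 := fun e => hr (Subtype.ext (by rw [← ht, e, zero_mul]; rfl))
  obtain ⟨g, hg, hgu⟩ := hS.torus u hu f hf huu hff huf t ht0
  refine ⟨R (⟨g, hg⟩ : K)⁻¹ x, apply_ne_zero R _ hx0, (mem_eigen R).2 fun c => ?_⟩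
  have hconj : (⟨g, hg⟩ : K) * trEl h hS hu huu c * (⟨g, hg⟩ : K)⁻¹
      = trEl h hS hu huu ⟨(r : F) * c, fixed_mul_mem r c⟩ := by
    refine Subtype.ext ?_
    simp only [Subgroup.coe_mul, Subgroup.coe_inv, coe_trEl]
    rw [h.conj_tr]
    exact tr_smul h huu _ hgu _ _ (by show (r : F) * c = _; rw [ht])
  rw [apply_apply, show trEl h hS hu huu c * (⟨g, hg⟩ : K)⁻¹
    = (⟨g, hg⟩ : K)⁻¹ * ((⟨g, hg⟩ : K) * trEl h hS hu huu c * (⟨g, hg⟩ : K)⁻¹) by group, hconj,
    ← apply_apply, (mem_eigen R).1 hx, map_smul]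
  rfl

theorem orbit_bound (hne : ∃ c : skew σ, R (trEl h hS hu huu c) ≠ 1) :
    (Nat.card (fixedSub σ) - 1) * Nat.card (fixedSub σ) ^ finrank F (inner B W u f)
      + finrank ℂ (fixTr h hS R hu huu) ≤ finrank ℂ U := by
  classical
  haveI := Fintype.ofFinite (fixedSub σ)
  obtain ⟨ζ, hζ, x, hx0, hx⟩ := exists_weight h hS R hu hf huu hff huf hne
  have hW' := inner_nondeg h hu hf huu hff huf hS.nondeg
  set m := finrank F (inner B W u f) with hm
  obtain ⟨b, hb⟩ := (h.restrict_herm hW').exists_orthonormal_basis hm.symm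
  -- the real vectors
  let real : (Fin m → fixedSub σ) → V := fun r => ∑ i, (r i : F) • (b i : V)
  have hreal : ∀ r, real r ∈ inner B W u f := fun r =>
    Submodule.sum_mem _ fun i _ => Submodule.smul_mem _ _ (b i).2
  have hBreal : ∀ r s, B (real r) (real s) = ∑ i, (r i : F) * s i := by
    intro r s
    simp only [real, map_sum, LinearMap.sum_apply, smul_left, smul_right, mem_fixedSub.1 (r _).2]
    refine Finset.sum_congr rfl fun i _ => ?_
    rw [Finset.sum_eq_single i (fun j _ hj => ?_) (fun hi => absurd (Finset.mem_univ i) hi)]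
    · have h1 : B (b i : V) (b i : V) = 1 := (hb i i).trans (if_pos rfl)
      rw [h1]; ring
    · have h1 : B (b j : V) (b i : V) = 0 := (hb j i).trans (if_neg hj)
      rw [h1]; ring
  have hsym : ∀ r s, B (real r) (real s) = B (real s) (real r) := fun r s => by
    rw [hBreal, hBreal]; exact Finset.sum_congr rfl fun i _ => mul_comm _ _
  -- the abelian subgroup
  let P := {p : (Fin m → fixedSub σ) × F // p.2 + σ p.2 = -B (real p.1) (real p.1)}
  let el : P → K := fun p => eichEl h hS hu huu (hreal p.1.1) p.2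
  have hcomm : ∀ p p', Commute (el p) (el p') := fun p p' => Subtype.ext (by
    simp only [el, Subgroup.coe_mul, coe_eichEl]
    rw [h.eich_mul_comm huu _ _ p.2 p'.2 (c := (0 : F)) (by rw [map_zero, add_zero])
      (by rw [hsym, sub_self]), tr_zero, one_mul])
  let z : skew σ → P := fun c => ⟨(0, c), by
    show (c : F) + σ (c : F) = _
    rw [mem_skew.1 c.2, hBreal]
    simp⟩
  have hz : ∀ c, el (z c) = trEl h hS hu huu c := fun c => Subtype.ext (by
    simp only [el, coe_trEl, coe_eichEl]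
    have h1 : (c : F) + σ (c : F) = -B (0 : V) 0 := by rw [map_zero, neg_zero]; exact mem_skew.1 c.2
    exact (eich_congr h huu (hux' := map_zero _) (ha' := h1) (by simp [real, z]) rfl).trans
      (eich_zero h huu _ h1 _))
  -- one weight for each character
  have hex : ∀ r : {r : fixedSub σ // r ≠ 0}, ∃ y, y ≠ 0 ∧ ∃ μ : P → ℂ, (∀ p, R (el p) y = μ p • y) ∧
      ∀ c, μ (z c) = scaled ζ r.1 c := by
    intro r
    obtain ⟨y₀, hy0, hy⟩ := exists_scaled_weight h hS R hu hf huu hff huf hx0 hx r.2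
    obtain ⟨y, hyE, hy1, μ, hμ⟩ := exists_eigen R el hcomm
      (eigen R (trEl h hS hu huu) fun c => scaled ζ r.1 c)
      (fun e => hy0 ((Submodule.mem_bot ℂ).1 (e ▸ hy)))
      (fun p w hw => eigen_invariant R
        (fun c => eichEl_mul_tr h hS hu hf huu hff huf _ _ c) hw)
    exact ⟨y, hy1, μ, hμ, fun c => smul_left_injective ℂ hy1
      ((hμ (z c)).symm.trans (by rw [hz]; exact (mem_eigen R).1 hyE c))⟩
  choose y hy0 μ hμ hμz using hex
  obtain ⟨j, hj⟩ := h.invol.exists_ne
  have hθ : ∀ a : F, σ a = a → (σ j - j) * a ∈ skew σ := fun a ha => by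
    rw [mem_skew, map_mul, map_sub, h.invol.invol, ha]; ring
  have hsum : ∀ s r : Fin m → fixedSub σ, σ (∑ i, (s i : F) * r i) = ∑ i, (s i : F) * r i := fun s r => by
    rw [map_sum]
    exact Finset.sum_congr rfl fun i _ => by rw [map_mul, mem_fixedSub.1 (s i).2, mem_fixedSub.1 (r i).2]
  let cst : (Fin m → fixedSub σ) → P → skew σ := fun s p =>
    ⟨(σ j - j) * ∑ i, (s i : F) * p.1.1 i, hθ _ (hsum _ _)⟩
  have hwe : ∀ s, ∃ a : F, a + σ a = -B (j • real s) (j • real s) := fun s =>
    h.invol.exists_trace_eq (by rw [map_neg, h.self_fixed])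
  choose aw haw using hwe
  let w : (Fin m → fixedSub σ) → K := fun s =>
    eichEl h hS hu huu (Submodule.smul_mem _ j (hreal s)) (haw s)
  have hmove : ∀ s p, el p * w s = trEl h hS hu huu (cst s p) * (w s * el p) := fun s p => Subtype.ext (by
    simp only [el, w, Subgroup.coe_mul, coe_trEl, coe_eichEl]
    refine h.eich_mul_comm huu _ _ p.2 (haw s) _ ?_
    show (σ j - j) * _ = _
    rw [smul_left, smul_right, hsym p.1.1 s, hBreal]
    ring)
  let J := {r : fixedSub σ // r ≠ 0} × (Fin m → fixedSub σ)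
  let ν : J → P → ℂ := fun d p => scaled ζ d.1.1 (cst d.2 p) * μ d.1 p
  have hν : ∀ d p, R (el p) (R (w d.2) (y d.1)) = ν d p • R (w d.2) (y d.1) := by
    intro d p
    have hcw : Commute (trEl h hS hu huu (cst d.2 p)) (w d.2 * el p) :=
      ((eichEl_mul_tr h hS hu hf huu hff huf _ _ _).mul_left (eichEl_mul_tr h hS hu hf huu hff huf _ _ _)).symm
    rw [apply_apply, hmove, hcw.eq, ← apply_apply, ← hz, hμ, hμz, map_smul, ← apply_apply, hμ,
      map_smul, smul_smul]
  have hνz : ∀ d c, ν d (z c) = scaled ζ d.1.1 c := fun d c => by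
    show scaled ζ d.1.1 _ * _ = _
    rw [show cst d.2 (z c) = 0 from Subtype.ext (by simp [cst, z]), AddChar.map_zero_eq_one, one_mul, hμz]
  have hsne : ∀ r : fixedSub σ, r ≠ 0 → scaled ζ r ≠ 1 := by
    intro r hr e
    refine hr (scaled_injective hζ (e.trans ?_))
    refine DFunLike.ext _ _ fun c => ?_
    show (1 : ℂ) = ζ _
    rw [← AddChar.map_zero_eq_one ζ]
    exact congrArg ζ (Subtype.ext (zero_mul _).symm)
  have hinj : Function.Injective ν := by
    rintro ⟨r, s⟩ ⟨r', s'⟩ e
    have hr : r = r' := Subtype.ext (scaled_injective hζ (DFunLike.ext _ _ fun c => by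
      have := congrFun e (z c)
      rwa [hνz, hνz] at this))
    subst hr
    refine Prod.ext rfl (funext fun i => ?_)
    by_contra hne'
    obtain ⟨c, hc⟩ := exists_ne (hsne r.1 r.2)
    have hj0 : σ j - j ≠ 0 := sub_ne_zero.2 hj
    have hd : (s i : F) - s' i ≠ 0 := sub_ne_zero.2 fun e' => hne' (Subtype.ext e')
    have hfix : σ ((c : F) / ((σ j - j) * ((s i : F) - s' i)))
        = (c : F) / ((σ j - j) * ((s i : F) - s' i)) := by
      rw [map_div₀, map_mul, map_sub, map_sub, h.invol.invol, mem_fixedSub.1 (s i).2,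
        mem_fixedSub.1 (s' i).2, eq_neg_of_add_eq_zero_right (mem_skew.1 c.2),
        show (j - σ j) * ((s i : F) - s' i) = -((σ j - j) * ((s i : F) - s' i)) by ring, neg_div_neg_eq]
    let xv : fixedSub σ := ⟨_, hfix⟩
    obtain ⟨a, ha⟩ := h.invol.exists_trace_eq
      (μ := -B (real (Pi.single i xv)) (real (Pi.single i xv))) (by rw [map_neg, h.self_fixed])
    let p : P := ⟨(Pi.single i xv, a), ha⟩
    have hcs : ∀ t : Fin m → fixedSub σ, (cst t p : F) = (σ j - j) * (t i * xv) := fun t => by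
      show (σ j - j) * ∑ k, (t k : F) * ((Pi.single i xv : Fin m → fixedSub σ) k : F) = _
      rw [Finset.sum_eq_single i (fun k _ hk => by rw [Pi.single_eq_of_ne hk, ZeroMemClass.coe_zero, mul_zero])
        (fun hi => absurd (Finset.mem_univ i) hi), Pi.single_eq_same]
    have hμ0 : μ r p ≠ 0 := fun e0 => apply_ne_zero R (el p) (hy0 r) (by rw [hμ, e0, zero_smul])
    have h1 : scaled ζ r.1 (cst s p) = scaled ζ r.1 (cst s' p) := mul_right_cancel₀ hμ0 (congrFun e p)
    refine hc ?_
    have hce : c = cst s p - cst s' p := Subtype.ext (by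
      rw [AddSubgroupClass.coe_sub, hcs, hcs]
      show (c : F) = (σ j - j) * ((s i : F) * ((c : F) / ((σ j - j) * ((s i : F) - s' i))))
        - (σ j - j) * ((s' i : F) * ((c : F) / ((σ j - j) * ((s i : F) - s' i))))
      field_simp)
    rw [hce, AddChar.map_sub_eq_div, h1, div_self]
    exact (AddChar.val_isUnit _ _).ne_zero
  have hbound := card_add_finrank_le R el hcomm z ν hinj (fun d => by
      obtain ⟨c, hc⟩ := exists_ne (hsne d.1.1 d.1.2)
      exact ⟨c, by rwa [hνz]⟩) (fun d => R (w d.2) (y d.1)) (fun d => apply_ne_zero R _ (hy0 _)) hν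
  have hcard : Fintype.card J = (Nat.card (fixedSub σ) - 1) * Nat.card (fixedSub σ) ^ m := by
    rw [Fintype.card_prod, Fintype.card_subtype_compl, Fintype.card_subtype_eq, Fintype.card_fun,
      Fintype.card_fin, Nat.card_eq_fintype_card]
  rw [show (eigen R (fun c => el (z c)) fun _ => (1 : ℂ)) = fixTr h hS R hu huu by simp only [hz]; rfl] at hbound
  rwa [hcard] at hbound

theorem exists_inner_nontrivial (h2 : 2 ≤ finrank F (inner B W u f))
    (hne : ∃ c : skew σ, R (trEl h hS hu huu c) ≠ 1) :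
    ∃ (v : V) (hv : v ∈ inner B W u f) (hvv : B v v = 0) (c : skew σ) (y : U),
      y ∈ fixTr h hS R hu huu ∧ R (trEl h hS (mem_inner.1 hv).1 hvv c) y ≠ y := by
  classical
  by_contra hcon
  push Not at hcon
  have hW' := inner_nondeg h hu hf huu hff huf hS.nondeg
  have hr := h.restrict_herm hW'
  obtain ⟨a', ha0', haa'⟩ := hr.exists_isotropic h2
  obtain ⟨b', hab', hbb'⟩ := hr.exists_isotropic_partner ha0' haa'
  obtain ⟨haW, hua, hfa⟩ := mem_inner.1 a'.2
  obtain ⟨hbW, hub, hfb⟩ := mem_inner.1 b'.2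
  set a : V := (a' : V)
  set b : V := (b' : V)
  have hab : B a b = 1 := hab'
  have hba : B b a = 1 := by rw [← h.symm, hab, map_one]
  have hau : B a u = 0 := h.eq_zero_symm hua
  have hbu : B b u = 0 := h.eq_zero_symm hub
  have haa : B a a = 0 := haa'
  have hbb : B b b = 0 := hbb'
  have hfu : B f u = 1 := by rw [← h.symm, huf, map_one]
  -- an element moving the line of `u` to that of `a`
  have h0a : (0 : F) + σ 0 = -B a a := by rw [haa, map_zero, add_zero, neg_zero]
  have h0u : (0 : F) + σ 0 = -B (-u) (-u) := by simp [huu]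
  let g₁ : K := ⟨h.eich hff hfa h0a, hS.eich_mem hff hfa h0a hf haW⟩
  have hbnu : B b (-u) = 0 := by rw [map_neg, hbu, neg_zero]
  let g₂ : K := ⟨h.eich hbb hbnu h0u, hS.eich_mem hbb hbnu h0u hbW (W.neg_mem hu)⟩
  let g : K := g₂ * g₁
  have hgu : ((g : HU B) : V ≃ₗ[F] V) u = a := by
    show (h.eich hbb hbnu h0u : V ≃ₗ[F] V) ((h.eich hff hfa h0a : V ≃ₗ[F] V) u) = a
    simp [h.eich_apply, hfu, hau, hbu, hba, hua, huu]
  have hgc : ∀ c, g * trEl h hS hu huu c * g⁻¹ = trEl h hS haW haa c := fun c => Subtype.ext (by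
    simp only [Subgroup.coe_mul, Subgroup.coe_inv, coe_trEl]
    rw [h.conj_tr]
    exact tr_smul h haa _ (t := 1) (by rw [one_smul, hgu]) _ _ (by simp))
  -- the two fixed spaces coincide
  set D := fixTr h hS R hu huu with hD
  set Da := eigen R (trEl h hS haW haa) fun _ => (1 : ℂ) with hDa
  let e : U ≃ₗ[ℂ] U := LinearEquiv.ofLinearMap (R g) (R g⁻¹)
    (by rw [← Module.End.mul_eq_comp, ← map_mul, mul_inv_cancel, map_one]; rfl)
    (by rw [← Module.End.mul_eq_comp, ← map_mul, inv_mul_cancel, map_one]; rfl)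
  have hmap : Da = D.map e.toLinearMap := by
    ext y
    rw [Submodule.mem_map]
    constructor
    · intro hy
      refine ⟨R g⁻¹ y, (mem_eigen R).2 fun c => ?_, ?_⟩
      · rw [one_smul, apply_apply, show trEl h hS hu huu c * g⁻¹
          = g⁻¹ * (g * trEl h hS hu huu c * g⁻¹) by group, hgc, ← apply_apply,
          (mem_eigen R).1 hy, one_smul]
      · show R g (R g⁻¹ y) = y
        rw [apply_apply, mul_inv_cancel, map_one]; rfl
    · rintro ⟨d, hd, rfl⟩
      refine (mem_eigen R).2 fun c => ?_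
      show R _ (R g d) = (1 : ℂ) • R g d
      rw [one_smul, ← hgc, apply_apply, inv_mul_cancel_right, ← apply_apply, (mem_eigen R).1 hd,
        one_smul]
  have hDD : D = Da := Submodule.eq_of_le_of_finrank_le
    (fun y hy => (mem_eigen R).2 fun c => by rw [one_smul]; exact hcon a a'.2 haa c y hy)
    (le_of_eq (by rw [hmap, LinearEquiv.finrank_map_eq]))
  -- a character space with trivial weight on the Eichler elements at `a`
  obtain ⟨ζ, hζ, x₀, hx0, hx⟩ := exists_weight h hS R hu hf huu hff huf hne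
  have hla : ∀ l : F, l • a ∈ inner B W u f := fun l => Submodule.smul_mem _ l a'.2
  have hl0 : ∀ l : F, (0 : F) + σ 0 = -B (l • a) (l • a) := fun l => by simp [haa, smul_left, smul_right]
  let E : F → K := fun l => eichEl h hS hu huu (hla l) (hl0 l)
  have hEE : ∀ l l', E l * E l' = E (l + l') := fun l l' => Subtype.ext (eich_mul h huu (mem_inner.1 (hla l)).2.1
    (mem_inner.1 (hla l')).2.1 (mem_inner.1 (hla (l + l'))).2.1 (hl0 l) (hl0 l') (hl0 (l + l'))
    (add_smul _ _ _) (by simp [smul_left, smul_right, haa]))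
  have hEc : ∀ l l', Commute (E l) (E l') := fun l l' => by
    rw [Commute, SemiconjBy, hEE, hEE, add_comm]
  have hE0 : E 0 = 1 := mul_left_cancel (a := E 0) (by rw [hEE, add_zero, mul_one])
  obtain ⟨x₁, hx1, hx10, θ, hθ⟩ := exists_eigen R E hEc (eigen R (trEl h hS hu huu) fun c => ζ c)
    (fun e' => hx0 ((Submodule.mem_bot ℂ).1 (e' ▸ hx)))
    (fun l w hw => eigen_invariant R (fun c => eichEl_mul_tr h hS hu hf huu hff huf _ _ c) hw)
  let θc : AddChar F ℂ :=
    { toFun := θ
      map_zero_eq_one' := smul_left_injective ℂ hx10 (by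
        show θ 0 • x₁ = (1 : ℂ) • x₁
        rw [← hθ, hE0, map_one, one_smul]; rfl)
      map_add_eq_mul' := fun l l' => smul_left_injective ℂ hx10 (by
        show θ (l + l') • x₁ = (θ l * θ l') • x₁
        rw [← hθ, ← hEE, ← apply_apply, hθ, map_smul, hθ, smul_smul, mul_comm]) }
  have hnb : ∀ ν : F, ν • b ∈ inner B W u f := fun ν => Submodule.smul_mem _ ν b'.2
  have hn0 : ∀ ν : F, (0 : F) + σ 0 = -B (ν • b) (ν • b) := fun ν => by simp [hbb, smul_left, smul_right]
  let T : F → K := fun ν => eichEl h hS hu huu (hnb ν) (hn0 ν)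
  have hmem : ∀ ν l : F, σ ν * l - σ l * ν ∈ skew σ := fun ν l => by
    rw [mem_skew, map_sub, map_mul, map_mul, h.invol.invol, h.invol.invol]; ring
  let χ : F → AddChar F ℂ := fun ν => ζ.compAddMonoidHom
    { toFun := fun l => ⟨σ ν * l - σ l * ν, hmem ν l⟩
      map_zero' := Subtype.ext (by simp)
      map_add' := fun l l' => Subtype.ext (by
        show σ ν * (l + l') - σ (l + l') * ν = σ ν * l - σ l * ν + (σ ν * l' - σ l' * ν)
        rw [map_add]; ring) }
  have hχinj : Function.Injective χ := by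
    intro ν ν' he
    by_contra hne'
    obtain ⟨c, hc⟩ := exists_ne hζ
    obtain ⟨k, hk⟩ := h.invol.exists_trace_eq (μ := (1 : F)) (map_one σ)
    have hd : ν - ν' ≠ 0 := sub_ne_zero.2 hne'
    have hsd : σ ν - σ ν' ≠ 0 := by rw [← map_sub]; exact fun e' => hd (IsInvol.apply_eq_zero_iff.1 e')
    refine hc ?_
    have h1 : χ ν (k * c / (σ ν - σ ν')) = χ ν' (k * c / (σ ν - σ ν')) := DFunLike.congr_fun he _
    have hce : c = (⟨_, hmem ν (k * c / (σ ν - σ ν'))⟩ : skew σ) - ⟨_, hmem ν' (k * c / (σ ν - σ ν'))⟩ :=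
      Subtype.ext (by
        rw [AddSubgroupClass.coe_sub]
        show (c : F) = σ ν * (k * c / (σ ν - σ ν')) - σ (k * c / (σ ν - σ ν')) * ν
          - (σ ν' * (k * c / (σ ν - σ ν')) - σ (k * c / (σ ν - σ ν')) * ν')
        have e1 : (σ ν - σ ν') * (k * c / (σ ν - σ ν')) = k * c := mul_div_cancel₀ _ hsd
        have e2 := congrArg σ e1
        rw [map_mul σ (σ ν - σ ν'), map_sub, h.invol.invol, h.invol.invol, map_mul σ k (c : F),
          eq_neg_of_add_eq_zero_right (mem_skew.1 c.2)] at e2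
        linear_combination -e1 + e2 - (c : F) * hk)
    rw [hce, AddChar.map_sub_eq_div]
    have h1' : ζ (⟨_, hmem ν (k * c / (σ ν - σ ν'))⟩ : skew σ) = ζ ⟨_, hmem ν' (k * c / (σ ν - σ ν'))⟩ := h1
    rw [h1', div_self]
    exact (AddChar.val_isUnit _ _).ne_zero
  haveI := Fintype.ofFinite F
  obtain ⟨ν, hν⟩ : ∃ ν, χ ν = θc⁻¹ :=
    ((Fintype.bijective_iff_injective_and_card χ).2 ⟨hχinj, by rw [AddChar.card_eq]⟩).2 _
  have hET : ∀ l ν, E l * T ν = trEl h hS hu huu ⟨_, hmem ν l⟩ * (T ν * E l) := fun l ν => Subtype.ext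
    (h.eich_mul_comm huu (mem_inner.1 (hla l)).2.1 (mem_inner.1 (hnb ν)).2.1 (hl0 l) (hn0 ν)
      (mem_skew.1 (hmem ν l)) (by simp [smul_left, smul_right, hab, hba]; ring))
  have hTz : ∀ ν c, Commute (T ν) (trEl h hS hu huu c) := fun ν c =>
    eichEl_mul_tr h hS hu hf huu hff huf _ _ c
  have hEz : ∀ l c, Commute (E l) (trEl h hS hu huu c) := fun l c =>
    eichEl_mul_tr h hS hu hf huu hff huf _ _ c
  set S := eigen R (trEl h hS hu huu) (fun c => ζ c) ⊓ eigen R E fun _ => (1 : ℂ) with hSdef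
  have hx₂ : R (T ν) x₁ ∈ S := by
    refine ⟨eigen_invariant R (hTz ν) hx1, (mem_eigen R).2 fun l => ?_⟩
    have hz1 : R (trEl h hS hu huu ⟨_, hmem ν l⟩) x₁ = ζ ⟨_, hmem ν l⟩ • x₁ := (mem_eigen R).1 hx1 _
    rw [apply_apply, hET, ((hTz ν _).symm.mul_right (hEz l _).symm).eq, ← apply_apply, hz1,
      map_smul, ← apply_apply, hθ, map_smul, smul_smul]
    have h2 : χ ν l * θ l = 1 := by
      rw [hν, AddChar.inv_apply, show θ l = θc l from rfl, ← AddChar.map_add_eq_mul, neg_add_cancel,
        AddChar.map_zero_eq_one]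
    rw [show ζ ⟨_, hmem ν l⟩ * θ l = 1 from h2]
  -- the root group at `a` acts on it
  have hXtr : ∀ s c, Commute (trEl h hS haW haa s) (trEl h hS hu huu c) := fun s c => Subtype.ext (by
    simp only [Subgroup.coe_mul, coe_trEl]
    rw [← mul_inv_eq_iff_eq_mul, h.conj_tr]
    exact tr_smul h huu _ (t := 1) (by rw [one_smul, h.tr_fix haa _ hau]) _ _ (by simp))
  have hXE : ∀ s l, Commute (trEl h hS haW haa s) (E l) := fun s l => Subtype.ext (by
    simp only [E, Subgroup.coe_mul, coe_trEl, coe_eichEl]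
    rw [← mul_inv_eq_iff_eq_mul]
    exact conj_eich h huu _ _ _ (h.tr_fix haa _ hau)
      (h.tr_fix haa _ (by rw [smul_right, haa, mul_zero])) _ _ _)
  obtain ⟨x₃, hx3, hx30, μ, hμ⟩ := exists_eigen R (trEl h hS haW haa) (trEl_comm h hS haW haa) S
    (fun e' => apply_ne_zero R (T ν) hx10 ((Submodule.mem_bot ℂ).1 (e' ▸ hx₂)))
    (fun s w hw => ⟨eigen_invariant R (hXtr s) hw.1, eigen_invariant R (hXE s) hw.2⟩)
  let μc : AddChar (skew σ) ℂ :=
    { toFun := μ
      map_zero_eq_one' := smul_left_injective ℂ hx30 (by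
        show μ 0 • x₃ = (1 : ℂ) • x₃
        rw [← hμ, trEl_zero, map_one, one_smul]; rfl)
      map_add_eq_mul' := fun s s' => smul_left_injective ℂ hx30 (by
        show μ (s + s') • x₃ = (μ s * μ s') • x₃
        rw [← hμ, ← trEl_mul, ← apply_apply, hμ, map_smul, hμ, smul_smul, mul_comm]) }
  obtain ⟨r, hr'⟩ := exists_scaled h.invol hζ μc⁻¹
  obtain ⟨n, hn⟩ := h.invol.exists_norm_eq (mem_fixedSub.1 r.2)
  have hXT : ∀ s : skew σ, trEl h hS haW haa s * T n
      = T n * E ((s : F) * n) * trEl h hS hu huu ⟨(r : F) * s, fixed_mul_mem r s⟩ * trEl h hS haW haa s := by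
    intro s
    refine Subtype.ext ?_
    simp only [E, T, Subgroup.coe_mul, coe_trEl, coe_eichEl]
    rw [← mul_inv_eq_iff_eq_mul]
    have hsa : B u (((s : F) * n) • a) = 0 := by rw [smul_right, hua, mul_zero]
    have hsp : (r : F) * s + σ ((r : F) * s) = 0 := mem_skew.1 (fixed_mul_mem r s)
    have hsp' : (r : F) * s + σ ((r : F) * s) = -B (((s : F) * n) • a) (((s : F) * n) • a) := by
      rw [hsp]; simp [smul_left, smul_right, haa]
    have hz0 : B u (0 : V) = 0 := map_zero _
    have hz0' : (r : F) * s + σ ((r : F) * s) = -B (0 : V) 0 := by rw [hsp]; simp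
    rw [mul_assoc (h.eich huu _ _), ← eich_zero h huu hz0 hz0' hsp,
      eich_mul h huu _ hz0 hsa _ hz0' hsp' (by rw [add_zero]) (by rw [map_zero]; ring)]
    have hs3 : B (n • b + ((s : F) * n) • a) (n • b + ((s : F) * n) • a) = 0 := by
      simp only [map_add, LinearMap.add_apply, smul_left, smul_right, haa, hbb, hab, hba, map_mul,
        eq_neg_of_add_eq_zero_right (mem_skew.1 s.2)]
      ring
    have hs4 : (0 : F) + σ 0 = -B (n • b + ((s : F) * n) • a) (n • b + ((s : F) * n) • a) := by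
      rw [hs3]; simp
    rw [eich_mul h huu _ hsa (by rw [map_add, smul_right, hub, hsa, mul_zero, add_zero]) _ hsp' hs4 rfl
      (by simp only [smul_left, smul_right, hba]; rw [← hn]; ring)]
    exact conj_eich h huu _ _ _ (h.tr_fix haa _ hau)
      (by rw [h.tr_apply, smul_right, hab, mul_one]) _ _ _
  have hfixed : R (T n) x₃ ∈ Da := (mem_eigen R).2 fun s => by
    rw [one_smul, apply_apply, hXT, ← apply_apply, hμ, map_smul, ← apply_apply,
      show R (trEl h hS hu huu ⟨(r : F) * s, fixed_mul_mem r s⟩) x₃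
        = ζ ⟨(r : F) * s, fixed_mul_mem r s⟩ • x₃ from (mem_eigen R).1 hx3.1 _,
      map_smul, ← apply_apply, (mem_eigen R).1 hx3.2, one_smul, smul_smul]
    have h2 : μ s * scaled ζ r s = 1 := by
      rw [hr', AddChar.inv_apply, show μ s = μc s from rfl, ← AddChar.map_add_eq_mul, add_neg_cancel,
        AddChar.map_zero_eq_one]
    rw [show μ s * ζ ⟨(r : F) * s, fixed_mul_mem r s⟩ = 1 from h2, one_smul]
  rw [← hDD] at hfixed
  obtain ⟨c, hc⟩ := exists_ne hζ
  refine hc (smul_left_injective ℂ (apply_ne_zero R (T n) hx30) ?_)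
  show ζ c • R (T n) x₃ = (1 : ℂ) • R (T n) x₃
  rw [← (mem_eigen R).1 (eigen_invariant R (hTz n) hx3.1) c, (mem_eigen R).1 hfixed c]

end Rep

/-- The recursion. -/
theorem pow_le_of_setting (h : IsHerm B) (k : ℕ) : ∀ (W : Submodule F V), Module.finrank F W = k →
    ∀ (K : Subgroup (HU B)) (hS : Setting h W K) (U : Type) [AddCommGroup U] [Module ℂ U]
      [FiniteDimensional ℂ U] (R : K →* Module.End ℂ U),
      (∃ (u : V) (hu : u ∈ W) (huu : B u u = 0) (c : skew σ), R (trEl h hS hu huu c) ≠ 1) →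
      Nat.card (fixedSub σ) ^ k ≤
        (Nat.card (fixedSub σ) + 1) * Module.finrank ℂ U + Nat.card (fixedSub σ) ^ (k % 2) := by
  induction k using Nat.strong_induction_on with
  | _ k ih =>
  intro W hk K hS U _ _ _ R ⟨u, hu, huu, c, hc⟩
  have hu0 : u ≠ 0 := by
    rintro rfl
    refine hc ?_
    rw [show trEl h hS hu huu c = 1 from Subtype.ext (by
      rw [coe_trEl]
      ext y; simp [h.tr_apply]), map_one]
  obtain ⟨f', huf', hff'⟩ := (h.restrict_herm hS.nondeg).exists_isotropic_partner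
    (u := ⟨u, hu⟩) (fun e => hu0 (congrArg Subtype.val e)) huu
  set f : V := (f' : V)
  have huf : B u f = 1 := huf'
  have hff : B f f = 0 := hff'
  have hfr := finrank_inner h hu f'.2 huu hff huf
  have hob := orbit_bound h hS R hu f'.2 huu hff huf ⟨c, hc⟩
  set m := Module.finrank F (inner B W u f) with hm
  rw [hk] at hfr
  set q := Nat.card (fixedSub σ) with hq
  have hq1 : 1 ≤ q := Nat.card_pos
  have key : q ^ m ≤ (q + 1) * Module.finrank ℂ (fixTr h hS R hu huu) + q ^ (m % 2) := by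
    rcases Nat.lt_or_ge m 2 with hlt | hge
    · rw [Nat.mod_eq_of_lt hlt]
      exact Nat.le_add_left _ _
    have hS' := setting_inner h hu f'.2 huu hff huf hS
    let D := fixTr h hS R hu huu
    let R' : ↥(K ⊓ lineStab B u) →* Module.End ℂ D :=
      { toFun := fun g => LinearMap.restrict (R (Subgroup.inclusion inf_le_left g)) fun _ hx =>
          fixTr_invariant h hS R hu f'.2 huu hff huf g.2.2 hx
        map_one' := LinearMap.ext fun x => Subtype.ext (by simp [LinearMap.restrict_apply])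
        map_mul' := fun g g' => LinearMap.ext fun x => Subtype.ext (by
          simp [LinearMap.restrict_apply, Module.End.mul_apply]) }
    obtain ⟨v, hv, hvv, d, y, hy, hne⟩ :=
      exists_inner_nontrivial h hS R hu f'.2 huu hff huf hge ⟨c, hc⟩
    exact ih m (by omega) _ hm.symm _ hS' D R' ⟨v, hv, hvv, d, fun e => hne (by
      have := congrArg Subtype.val (LinearMap.congr_fun e (⟨y, hy⟩ : D))
      exact this)⟩
  have hk2 : k = m + 2 := hfr
  rw [hk2, Nat.add_mod_right]
  refine le_trans ?_ (Nat.add_le_add_right (Nat.mul_le_mul_left _ hob) _)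
  obtain ⟨q', hq'⟩ : ∃ q', q = q' + 1 := ⟨q - 1, by omega⟩
  rw [hq'] at key ⊢
  simp only [add_tsub_cancel_right, mul_add, pow_succ]
  nlinarith [key]

end CfsgLib.Known.SUDegree
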