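import Cfsg.Agent.Lib.Char.Exceptional.CrossChar
import Mathlib.Analysis.Complex.Polynomial.Basic
import Mathlib.Analysis.Fourier.FiniteAbelian.PontryaginDuality

/-!
Joint eigenvectors of commuting elements in complex representations.
-/

set_option autoImplicit false

namespace CfsgLib.Known.SUDegree

open Module

variable {G : Type*} [Group G] {U : Type*} [AddCommGroup U] [Module ℂ U] (R : G →* Module.End ℂ U)

/-- The joint eigenspace of a family of elements. -/
noncomputable def eigen {I : Type*} (el : I → G) (μ : I → ℂ) : Submodule ℂ U :=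
  ⨅ i, LinearMap.ker (R (el i) - μ i • 1)

theorem mem_eigen {I : Type*} {el : I → G} {μ : I → ℂ} {x : U} :
    x ∈ eigen R el μ ↔ ∀ i, R (el i) x = μ i • x := by
  simp [eigen, Submodule.mem_iInf, sub_eq_zero]

theorem apply_apply (a b : G) (x : U) : R a (R b x) = R (a * b) x := by
  rw [map_mul, Module.End.mul_apply]

theorem apply_inv_apply (a : G) (x : U) : R a⁻¹ (R a x) = x := by
  rw [apply_apply, inv_mul_cancel, map_one, Module.End.one_apply]

theorem apply_ne_zero (a : G) {x : U} (hx : x ≠ 0) : R a x ≠ 0 := fun h => hx (by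
  rw [← apply_inv_apply R a x, h, map_zero])

theorem eigen_invariant {I : Type*} {el : I → G} {μ : I → ℂ} {g : G} (hg : ∀ i, Commute g (el i))
    {x : U} (hx : x ∈ eigen R el μ) : R g x ∈ eigen R el μ := by
  rw [mem_eigen] at hx ⊢
  intro i
  rw [apply_apply, ← (hg i).eq, ← apply_apply, hx i, map_smul]

theorem exists_eigen [FiniteDimensional ℂ U] {J : Type*} (el : J → G)
    (hcomm : ∀ i j, Commute (el i) (el j)) (W : Submodule ℂ U) (hW : W ≠ ⊥)
    (hinv : ∀ j, ∀ w ∈ W, R (el j) w ∈ W) :
    ∃ x ∈ W, x ≠ 0 ∧ ∃ μ : J → ℂ, ∀ j, R (el j) x = μ j • x :=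
  CrossChar.exists_common_eigen (fun j => R (el j))
    (fun i j => ((hcomm i j).map R)) W hW hinv

/-- Independence of eigenvectors with distinct weights, beside the fixed vectors of some of the elements. -/
theorem card_add_finrank_le [FiniteDimensional ℂ U] {I I₀ J : Type*} [Fintype J] (el : I → G)
    (hcomm : ∀ i j, Commute (el i) (el j)) (z : I₀ → I) (μ : J → I → ℂ)
    (hinj : Function.Injective μ) (hne : ∀ j, ∃ i, μ j (z i) ≠ 1) (x : J → U) (hx0 : ∀ j, x j ≠ 0)
    (hx : ∀ j i, R (el i) (x j) = μ j i • x j) :
    Fintype.card J + finrank ℂ (eigen R (fun i => el (z i)) fun _ => 1) ≤ finrank ℂ U := by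
  set X : I → Module.End ℂ U := fun i => R (el i) with hXdef
  have hind := (Module.End.independent_iInf_maxGenEigenspace_of_forall_mapsTo X fun i j φ =>
    Module.End.mapsTo_maxGenEigenspace_of_comm ((hcomm j i).map R) φ).comp
      (f := μ) hinj
  have hli : LinearIndependent ℂ x := hind.linearIndependent _ (fun j => by
    simp only [Function.comp_apply, Submodule.mem_iInf]
    exact fun i => Module.End.eigenspace_le_maxGenEigenspace (Module.End.mem_eigenspace_iff.2 (hx j i))) hx0
  set C := eigen R (fun i => el (z i)) fun _ => (1 : ℂ)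
  let L : (J → ℂ) × C →ₗ[ℂ] U := (Fintype.linearCombination ℂ x).coprod C.subtype
  have hL : Function.Injective L := by
    rw [injective_iff_map_eq_zero]
    rintro ⟨c, y⟩ hcy
    have hcy' : (∑ j, c j • x j) + (y : U) = 0 := hcy
    have hc : c = 0 := funext fun k => by
      obtain ⟨i, hi⟩ := hne k
      have e := congrArg (R (el (z i))) hcy'
      rw [map_add, map_sum, (mem_eigen R).1 y.2 i, one_smul, map_zero] at e
      simp only [map_smul, hx, smul_smul] at e
      have e2 : ∑ j, (c j * (μ j (z i) - 1)) • x j = 0 := by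
        simp only [mul_sub, sub_smul, mul_one, Finset.sum_sub_distrib]
        rw [← hcy'] at e
        exact sub_eq_zero.2 (add_right_cancel e)
      have := Fintype.linearIndependent_iff.1 hli _ e2 k
      exact (mul_eq_zero.1 this).resolve_right (sub_ne_zero.2 hi)
    subst hc
    simp only [Pi.zero_apply, zero_smul, Finset.sum_const_zero, zero_add] at hcy'
    exact Prod.ext rfl (Subtype.ext hcy')
  have := LinearMap.finrank_le_finrank_of_injective hL
  rwa [Module.finrank_prod, Module.finrank_fintype_fun_eq_card] at this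

end CfsgLib.Known.SUDegree
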